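import Cfsg.Agent.H338.Out.FixCent
import Cfsg.Agent.H229.Base

/-!
# Groups of local characteristic `p` with a normal subgroup with a root group datum (helper338, TEAM S3046)

`not_dvd_index` : if `H` is of local characteristic `p` and `K` is a normal subgroup of `H` isomorphic to a group `Y`
with a root group datum of characteristic `p` (`T`, `X` generating), then `p` does not divide `|H : K|`.
-/

set_option autoImplicit false
set_option linter.unusedSectionVars false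

namespace Cfsg.Agent.H338.Out

open CoxeterSystem Cfsg.Agent.ChevalleyStructure.CoxeterGeom Cfsg.Agent.Tits.Roots Cfsg.Agent.Tits.Core
  Cfsg.Agent.Tits.Exchange Cfsg.Agent.Nodes.Reps Cfsg.Agent.Nodes.BNOf Cfsg.Agent.Nodes.StabComb
  Cfsg.Agent.Nodes.Bruhat Cfsg.Agent.Nodes.OppDec Cfsg.Agent.Nodes.LeviDec Cfsg.Agent.Nodes.NormalForm
  Cfsg.Agent.KFacts.RgdOpp Cfsg.Agent.KFacts.RgdAut Cfsg.Agent.KFacts.RgdDiag Cfsg.Agent.KFacts.RgdRigid

variable {I W Y : Type*} [Fintype I] [DecidableEq I] [Group W] [Group Y] {M : CoxeterMatrix I}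
  {cs : CoxeterSystem M W} {A : I → I → ℤ} {h : IsCartan M A} {p : ℕ} {T : Subgroup Y} {n : I → Y}
  {X : (I → ℤ) → Subgroup Y}

section

variable (R : RGD cs h p T n X)

include R

/-- **`p` does not divide `|H : K|`.** -/
theorem not_dvd_index [Finite W] [Nonempty I] [Fact p.Prime] (hG : GG cs h T X = ⊤) {H : Type*} [Group H]
    [Finite H] (hloc : Cfsg.IsOfLocalCharacteristic p H) (K : Subgroup H) [K.Normal] (e : Y ≃* K) :
    ¬ p ∣ K.index := by
  intro hpK
  have : Finite Y := Finite.of_equiv _ e.symm.toEquiv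
  set U := RGD.Sup X (RGD.Pos cs h) with hUdef
  let ι : Y →* H := K.subtype.comp e.toMonoidHom
  have hιinj : Function.Injective ι := K.subtype_injective.comp e.injective
  have hιK : ∀ y, ι y ∈ K := fun y => (e y).2
  have hιe : ∀ {x : H}, x ∈ K → ∃ y, ι y = x := fun {x} hx => ⟨e.symm ⟨x, hx⟩, by
    change ((e (e.symm ⟨x, hx⟩) : K) : H) = x
    rw [e.apply_symm_apply]⟩
  let a : H →* MulAut Y := (MulAut.congr e.symm).toMonoidHom.comp (MulAut.conjNormal (H := K))
  have ha : ∀ g y, ι (a g y) = g * ι y * g⁻¹ := by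
    intro g y
    change ((e (e.symm (MulAut.conjNormal g (e y))) : K) : H) = g * ((e y : K) : H) * g⁻¹
    rw [e.apply_symm_apply, MulAut.conjNormal_apply]
  have haι : ∀ u, a (ι u) = MulAut.conj u := by
    intro u
    ext x
    apply hιinj
    rw [ha, MulAut.conj_apply, map_mul, map_mul, map_inv]
  -- the Sylow `p`-subgroup of `H`
  have hUp : IsPGroup p U := R.isPGroup_Upos
  obtain ⟨S, hS⟩ := (hUp.map ι).exists_le_sylow
  have hSU : (S : Subgroup H).comap ι = U :=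
    eq_U_of_isPGroup R (S.isPGroup'.comap_of_injective ι hιinj) (Subgroup.map_le_iff_le_comap.1 hS)
      (by rw [hG]; exact le_top)
  obtain ⟨g, hgS, hgK⟩ : ∃ g ∈ (S : Subgroup H), g ∉ K := by
    by_contra hcon
    push Not at hcon
    exact S.not_dvd_index (hpK.trans (Subgroup.index_dvd_of_le fun x hx => hcon x hx))
  have hgU : Fix (a g) U := by
    intro x
    rw [← hSU, Subgroup.mem_comap, Subgroup.mem_comap, ha]
    rw [Subgroup.mul_mem_cancel_right _ (inv_mem hgS), Subgroup.mul_mem_cancel_left _ hgS]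
  obtain ⟨u, hu, hfU, -, hfUN, -, -⟩ := exists_frame R hG hgU
  set f : H := ι u * g with hf
  have haf : a f = MulAut.conj u * a g := by rw [hf, map_mul, haι]
  rw [← haf] at hfU hfUN
  have hfS : f ∈ (S : Subgroup H) := mul_mem (hS (Subgroup.mem_map_of_mem _ hu)) hgS
  have hfK : f ∉ K := fun h0 => hgK ((Subgroup.mul_mem_cancel_left K (hιK u)).1 h0)
  have hf1 : f ≠ 1 := fun h0 => hfK (h0 ▸ one_mem K)
  obtain ⟨j, hj⟩ := S.isPGroup' ⟨f, hfS⟩
  have hj : f ^ p ^ j = 1 := congrArg Subtype.val hj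
  have hβ : a f ^ p ^ j = 1 := by rw [← map_pow, hj, map_one]
  -- the local subgroup
  set L : Subgroup H := Subgroup.normalizer (Subgroup.zpowers f : Set H) with hL
  have hch : Cfsg.Agent.H229.ChP p L :=
    Cfsg.Agent.H229.chP_iff.2 (hloc.2 _ (isPGroup_zpowers_of_pow hj) (by rwa [Ne, Subgroup.zpowers_eq_bot]))
  set D := Cfsg.pCoreOf p L with hD
  have hDp : IsPGroup p D := Cfsg.Agent.H229.isPGroup_pCoreOf p L
  have hDL : D ≤ L := Cfsg.Agent.H229.pCoreOf_le p L
  have hLD : L ≤ Subgroup.normalizer (D : Set H) := Cfsg.Agent.H229.le_norm_pCoreOf p L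
  -- `Fx (a f)` centralises `f`
  have hFx : ∀ {y : Y}, y ∈ Fx (a f) ↔ ι y * f = f * ι y := by
    intro y
    rw [mem_Fx, ← hιinj.eq_iff, ha]
    rw [mul_inv_eq_iff_eq_mul]
    exact eq_comm
  have hFc : ∀ {y : Y}, y ∈ Fx (a f) → ι y ∈ Subgroup.centralizer (Subgroup.zpowers f : Set H) := by
    intro y hy
    rw [Subgroup.mem_centralizer_iff]
    rintro _ ⟨k, rfl⟩
    exact (Commute.zpow_left (show Commute f (ι y) from (hFx.1 hy).symm) k).eq
  have hFL : ∀ {y : Y}, y ∈ Fx (a f) → ι y ∈ L := fun {y} hy =>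
    Cfsg.Agent.H229.centralizer_le_norm _ (hFc hy)
  -- `O_p(C_Y(f)) = 1`
  have hQ : D.comap ι ⊓ Fx (a f) = ⊥ := by
    refine eq_bot_of_normal R hG hβ hfU hfUN ((hDp.comap_of_injective ι hιinj).to_le inf_le_left) inf_le_right ?_
    intro y hy
    rw [Subgroup.mem_normalizer_iff]
    intro z
    have h1 := Subgroup.mem_normalizer_iff.1 (hLD (hFL hy)) (ι z)
    have h2 : y * z * y⁻¹ ∈ Fx (a f) ↔ z ∈ Fx (a f) := by
      rw [Subgroup.mul_mem_cancel_right _ (inv_mem hy), Subgroup.mul_mem_cancel_left _ hy]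
    change z ∈ D.comap ι ⊓ Fx (a f) ↔ y * z * y⁻¹ ∈ D.comap ι ⊓ Fx (a f)
    have e3 : ι (y * z * y⁻¹) = ι y * ι z * (ι y)⁻¹ := by rw [map_mul, map_mul, map_inv]
    rw [Subgroup.mem_inf, Subgroup.mem_inf, h2, Subgroup.mem_comap, Subgroup.mem_comap, e3, h1]
  -- `C_Y(f)` centralises `D`
  have hFD : ∀ {y : Y}, y ∈ Fx (a f) → ι y ∈ Subgroup.centralizer (D : Set H) := by
    intro y hy
    rw [Subgroup.mem_centralizer_iff]
    intro d hd
    have hcK : d * ι y * d⁻¹ * (ι y)⁻¹ ∈ K :=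
      mul_mem (Subgroup.Normal.conj_mem inferInstance _ (hιK y) d) (inv_mem (hιK y))
    obtain ⟨z, hz⟩ := hιe hcK
    have hzD : ι z ∈ D := by
      rw [hz]
      have h1 := (Subgroup.mem_normalizer_iff.1 (hLD (hFL hy)) d⁻¹).1 (inv_mem hd)
      have e1 : d * ι y * d⁻¹ * (ι y)⁻¹ = d * (ι y * d⁻¹ * (ι y)⁻¹) := by group
      rw [e1]
      exact mul_mem hd h1
    have hzc : ι z ∈ Subgroup.centralizer (Subgroup.zpowers f : Set H) := by
      rw [hz]
      refine mul_mem ?_ (inv_mem (hFc hy))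
      have h1 : L ≤ Subgroup.normalizer (Subgroup.centralizer (Subgroup.zpowers f : Set H) : Set H) :=
        Cfsg.Agent.H229.norm_le_norm_centralizer _
      exact (Subgroup.mem_normalizer_iff.1 (h1 (hDL hd)) _).1 (hFc hy)
    have hzF : z ∈ Fx (a f) := hFx.2 (Subgroup.mem_centralizer_iff.1 hzc f (Subgroup.mem_zpowers f)).symm
    have hz1 : z = 1 := by
      have : z ∈ D.comap ι ⊓ Fx (a f) := ⟨hzD, hzF⟩
      rwa [hQ, Subgroup.mem_bot] at this
    rw [hz1, map_one] at hz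
    have e1 : d * ι y = (d * ι y * d⁻¹ * (ι y)⁻¹) * (ι y * d) := by group
    rw [e1, ← hz, one_mul]
  obtain ⟨x, hx1, hx⟩ := exists_fixed_U R hβ hfU
  have hx' : x ∈ D.comap ι ⊓ Fx (a f) := ⟨hch ⟨hFL hx, hFD hx⟩, hx⟩
  rw [hQ, Subgroup.mem_bot] at hx'
  exact hx1 hx'

/-- The Sylow `p`-subgroups of `H` lie in `K`. -/
theorem sylow_le [Finite W] [Nonempty I] [Fact p.Prime] (hG : GG cs h T X = ⊤) {H : Type*} [Group H]
    [Finite H] (hloc : Cfsg.IsOfLocalCharacteristic p H) (K : Subgroup H) [K.Normal] (e : Y ≃* K)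
    (S : Sylow p H) : (S : Subgroup H) ≤ K := by
  have h1 := not_dvd_index R hG hloc K e
  rw [← Subgroup.relIndex_eq_one]
  obtain ⟨k, hk⟩ := IsPGroup.iff_card.1 S.isPGroup'
  have h2 : K.relIndex (S : Subgroup H) ∣ K.index := Subgroup.relIndex_dvd_index_of_normal _ _
  have h3 : K.relIndex (S : Subgroup H) ∣ p ^ k := by
    rw [← hk]
    exact Subgroup.relIndex_dvd_card _ _
  obtain ⟨m, -, hm⟩ := (Nat.dvd_prime_pow Fact.out).1 h3
  rcases m with _ | m
  · rw [hm, pow_zero]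
  · exact absurd ((dvd_pow_self p m.succ_ne_zero).trans (hm ▸ h2)) h1

end

end Cfsg.Agent.H338.Out
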