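import Cfsg.Agent.H271.PU.Row
import Cfsg.Agent.H210.Loc.TI

/-!
# S3046, case B: groups of rank one in characteristic `p` (helper338)

`caseB_false_of_TI` : `K` has no TI Sylow `p`-subgroups; the rows `PSL₂`, `PSU₃`, `Sz`, `Ree`.
-/

set_option autoImplicit false

namespace Cfsg.Agent.H338.Out

open Subgroup Cfsg
open Cfsg.Agent.H229 Cfsg.Agent.H271.PU
open scoped Pointwise

variable {H : Type*} [Group H] [Finite H] {p : ℕ} [Fact p.Prime] {S : Sylow p H} {C Q P V W K : Subgroup H}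

/-- the Sylow subgroup `S ∩ K` of the normal subgroup `K` -/
theorem exists_sylow_map (S : Sylow p H) (K : Subgroup H) [K.Normal] :
    ∃ R : Sylow p K, (R : Subgroup K).map K.subtype = (S : Subgroup H) ⊓ K := by
  have h1 : IsPGroup p ↥((S : Subgroup H).subgroupOf K) := S.isPGroup'.comap_of_injective K.subtype K.subtype_injective
  obtain ⟨R, hR⟩ := h1.exists_le_sylow
  refine ⟨R, le_antisymm ?_ ?_⟩
  · -- `R` lies in a conjugate of `S`
    obtain ⟨S', hS'⟩ := (R.isPGroup'.map K.subtype).exists_le_sylow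
    obtain ⟨g, hg⟩ := MulAction.exists_smul_eq H S' S
    have h2 : Nat.card ((R : Subgroup K).map K.subtype) ≤ Nat.card ((S : Subgroup H) ⊓ K : Subgroup H) := by
      have h3 : cj g ((R : Subgroup K).map K.subtype) ≤ (S : Subgroup H) ⊓ K := by
        refine le_inf ?_ ?_
        · rw [← hg, Sylow.coe_subgroup_smul]
          exact cj_mono hS'
        · rintro _ ⟨x, ⟨y, -, rfl⟩, rfl⟩
          exact Subgroup.Normal.conj_mem inferInstance _ y.2 g
      have h4 : Nat.card (cj g ((R : Subgroup K).map K.subtype)) = Nat.card ((R : Subgroup K).map K.subtype) :=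
        Subgroup.card_map_of_injective (MulAut.conj g).injective
      rw [← h4]
      exact Subgroup.card_le_of_le h3
    have h5 : (S : Subgroup H) ⊓ K ≤ (R : Subgroup K).map K.subtype := by
      rintro x ⟨hx, hxK⟩
      exact ⟨⟨x, hxK⟩, hR (mem_subgroupOf.2 hx), rfl⟩
    exact (Subgroup.eq_of_le_of_card_ge h5 h2).ge
  · rintro x ⟨hx, hxK⟩
    exact ⟨⟨x, hxK⟩, hR (mem_subgroupOf.2 hx), rfl⟩

/-- **G2.** the Sylow `p`-subgroups of `K` are not TI -/
theorem caseB_false_of_TI (h : CaseB p S C Q P V W) (hK : K.Normal) (hp : p ∣ Nat.card K)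
    (hTI : H210.Loc.TI p K) : False := by
  obtain ⟨R, hR⟩ := exists_sylow_map S K
  refine h.not_TI hK hp fun g hg => ?_
  by_contra hne
  have h1 : (((MulAut.conjNormal (H := K) g) • R : Sylow p K) : Subgroup K).map K.subtype =
      cj g ((S : Subgroup H) ⊓ K) := by
    rw [← hR, Sylow.pointwise_smul_def]
    ext x
    constructor
    · rintro ⟨_, ⟨y, hy, rfl⟩, rfl⟩
      exact ⟨y, ⟨y, hy, rfl⟩, rfl⟩
    · rintro ⟨_, ⟨y, hy, rfl⟩, rfl⟩
      exact ⟨_, ⟨y, hy, rfl⟩, rfl⟩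
  have h2 : R ≠ (MulAut.conjNormal (H := K) g) • R := by
    intro h0
    apply hne
    rw [← h1, ← h0, hR]
  have h3 := hTI _ _ h2
  apply hg
  rw [← h1, ← hR, ← Subgroup.map_inf_eq _ _ _ K.subtype_injective, h3, Subgroup.map_bot]

theorem caseB_false_psl2 (h : CaseB p S C Q P V W) (hK : K.Normal) (hp : p ∣ Nat.card K) {F : Type*} [Field F]
    [Finite F] [CharP F p] (e : K ≃* Matrix.ProjectiveSpecialLinearGroup (Fin 2) F) : False := by
  have : Finite (Matrix.ProjectiveSpecialLinearGroup (Fin 2) F) := Finite.of_equiv _ e.toEquiv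
  exact caseB_false_of_TI h hK hp (H210.Loc.ti_psl2.of_equiv e.symm)

theorem caseB_false_psu3 (h : CaseB p S C Q P V W) (hK : K.Normal) (hp : p ∣ Nat.card K) {F : Type*} [Field F]
    [Fintype F] [CharP F p] {q : ℕ} (hF : Fintype.card F = q ^ 2) (e : K ≃* Cfsg.PSU 3 F q) : False := by
  have : Finite (Cfsg.PSU 3 F q) := Finite.of_equiv _ e.toEquiv
  exact caseB_false_of_TI h hK hp ((H210.Loc.ti_psu3 hF).of_equiv e.symm)

theorem caseB_false_suzuki {S : Sylow 2 H} (h : CaseB 2 S C Q P V W) (hK : K.Normal) (hp : 2 ∣ Nat.card K)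
    (hs : Cfsg.Lie.IsoSuzuki K) : False :=
  haveI : Fact (Nat.Prime 2) := ⟨Nat.prime_two⟩
  caseB_false_of_TI h hK hp (H210.Loc.ti_suzuki hs)

theorem caseB_false_ree {S : Sylow 3 H} (h : CaseB 3 S C Q P V W) (hK : K.Normal) (hp : 3 ∣ Nat.card K)
    (hs : Cfsg.Lie.IsoRee K) : False :=
  haveI : Fact (Nat.Prime 3) := ⟨Nat.prime_three⟩
  caseB_false_of_TI h hK hp (H210.Loc.ti_ree hs)

end Cfsg.Agent.H338.Out
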