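import Cfsg.Agent.H338.Out.FixCh
import Cfsg.Agent.KFacts.RgdAutFacts

/-!
# `O_p(C_Y(β)) = 1` for a frame automorphism of `p`-power order (helper338, TEAM S3046)
-/

set_option autoImplicit false
set_option linter.unusedSectionVars false

namespace Cfsg.Agent.H338.Out

open CoxeterSystem Cfsg.Agent.ChevalleyStructure.CoxeterGeom Cfsg.Agent.Tits.Roots Cfsg.Agent.Tits.Core
  Cfsg.Agent.Tits.Exchange Cfsg.Agent.Nodes.Reps Cfsg.Agent.Nodes.BNOf Cfsg.Agent.Nodes.StabComb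
  Cfsg.Agent.Nodes.Bruhat Cfsg.Agent.Nodes.OppDec Cfsg.Agent.Nodes.LeviDec Cfsg.Agent.Nodes.NormalForm
  Cfsg.Agent.KFacts.RgdOpp Cfsg.Agent.KFacts.RgdAut Cfsg.Agent.KFacts.RgdDiag Cfsg.Agent.KFacts.RgdRigid
open scoped Pointwise

/-- the fixed points of an automorphism -/
def Fx {Y : Type*} [Group Y] (β : MulAut Y) : Subgroup Y where
  carrier := {x | β x = x}
  mul_mem' {a b} ha hb := by
    change β (a * b) = a * b
    rw [map_mul, show β a = a from ha, show β b = b from hb]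
  one_mem' := map_one β
  inv_mem' {a} ha := by
    change β a⁻¹ = a⁻¹
    rw [map_inv, show β a = a from ha]

theorem mem_Fx {Y : Type*} [Group Y] {β : MulAut Y} {x : Y} : x ∈ Fx β ↔ β x = x := Iff.rfl

theorem le_norm_of_comm {G : Type*} [Group G] {A B : Subgroup G} (hAB : ∀ a ∈ A, ∀ b ∈ B, a * b = b * a) :
    A ≤ Subgroup.normalizer (B : Set G) := by
  intro a ha
  rw [Subgroup.mem_normalizer_iff]
  intro b
  constructor
  · intro hb
    rw [hAB a ha b hb, mul_inv_cancel_right]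
    exact hb
  · intro hb
    have h1 := hAB a⁻¹ (inv_mem ha) _ hb
    have h2 : b = a⁻¹ * (a * b * a⁻¹) * a := by group
    rw [h2, h1]
    simpa using hb

theorem isPGroup_zpowers_of_pow {G : Type*} [Group G] {p : ℕ} [Fact p.Prime] {g : G} {j : ℕ} (hg : g ^ p ^ j = 1) :
    IsPGroup p (Subgroup.zpowers g) := by
  rintro ⟨x, hx⟩
  obtain ⟨k, rfl⟩ := Subgroup.mem_zpowers_iff.1 hx
  refine ⟨j, Subtype.ext ?_⟩
  change (g ^ k) ^ p ^ j = 1
  rw [← zpow_natCast, ← zpow_mul, mul_comm, zpow_mul, zpow_natCast, hg, one_zpow]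

variable {I W Y : Type*} [Fintype I] [DecidableEq I] [Group W] [Group Y] {M : CoxeterMatrix I}
  {cs : CoxeterSystem M W} {A : I → I → ℤ} {h : IsCartan M A} {p : ℕ} {T : Subgroup Y} {n : I → Y}
  {X : (I → ℤ) → Subgroup Y}

section

variable (R : RGD cs h p T n X)

include R

theorem le_U_of_normal [Finite W] [Finite Y] [Fact p.Prime] (hG : GG cs h T X = ⊤) {β : MulAut Y} {j : ℕ}
    (hβ : β ^ p ^ j = 1) (hU : Fix β (RGD.Sup X (RGD.Pos cs h))) (hUN : Fix β (UN cs h X)) {Q : Subgroup Y}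
    (hQ : IsPGroup p Q) (hQf : Q ≤ Fx β) (hQn : Fx β ≤ Subgroup.normalizer (Q : Set Y)) :
    Q ≤ RGD.Sup X (RGD.Pos cs h) := by
  set U := RGD.Sup X (RGD.Pos cs h) with hUdef
  have hT : Fix β T := by
    obtain ⟨σ, D⟩ := exists_diag R hG hU hUN
    exact D.tor
  have hUp : IsPGroup p U := R.isPGroup_Upos
  set C : Subgroup Y := U ⊓ Fx β with hC
  set E : Subgroup Y := Q ⊔ C with hE
  have hEp : IsPGroup p E := hQ.to_sup_of_normal_left' (hUp.to_le inf_le_left) (inf_le_right.trans hQn)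
  have hEf : E ≤ Fx β := sup_le hQf inf_le_right
  -- the `p`-group generated by `β` and `E` acts on the Sylow subgroups
  have hcomm : ∀ a ∈ Subgroup.zpowers β, ∀ b ∈ E.map (MulAut.conj (G := Y)), a * b = b * a := by
    have h0 : ∀ b ∈ E.map (MulAut.conj (G := Y)), β * b = b * β := by
      rintro _ ⟨e, he, rfl⟩
      ext x
      simp only [MulAut.mul_apply, MulAut.conj_apply, map_mul, map_inv]
      rw [show β e = e from hEf he]
    intro a ha b hb
    obtain ⟨k, rfl⟩ := Subgroup.mem_zpowers_iff.1 ha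
    exact (Commute.zpow_left (h0 b hb) k).eq
  have hP : IsPGroup p (Subgroup.zpowers β ⊔ E.map (MulAut.conj (G := Y)) : Subgroup (MulAut Y)) :=
    IsPGroup.to_sup_of_normal_right' (isPGroup_zpowers_of_pow hβ) (hEp.map _) (le_norm_of_comm hcomm)
  obtain ⟨S, hS⟩ := hP.nonempty_fixed_point_of_prime_not_dvd_card (Sylow p Y) (not_dvd_card_sylow p Y)
  have hSβ : β • S = S := hS ⟨β, (le_sup_left : Subgroup.zpowers β ≤ _) (Subgroup.mem_zpowers β)⟩
  have hSE : ∀ e ∈ E, MulAut.conj e • S = S := fun e he =>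
    hS ⟨MulAut.conj e, (le_sup_right : E.map (MulAut.conj (G := Y)) ≤ _) (Subgroup.mem_map_of_mem _ he)⟩
  have hES : E ≤ (S : Subgroup Y) := by
    have h1 : E ≤ Subgroup.normalizer (S : Set Y) := fun e he => Sylow.smul_eq_iff_mem_normalizer.1 (hSE e he)
    have h2 := hEp.inf_normalizer_sylow S
    rw [inf_eq_left.2 h1] at h2
    rw [h2]
    exact inf_le_right
  have hSfix : Fix β (S : Subgroup Y) := by
    intro x
    have h1 : β • (S : Subgroup Y) = (S : Subgroup Y) := by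
      rw [← Sylow.pointwise_smul_def, hSβ]
    have h2 := Subgroup.smul_mem_pointwise_smul_iff (a := β) (S := (S : Subgroup Y)) (x := x)
    rw [h1] at h2
    exact h2
  obtain ⟨g, hg⟩ := Cfsg.Agent.KFacts.RgdAutFacts.sylow_eq_cj R hG S
  have hgB : g⁻¹ * β g ∈ RGD.B cs h T X := by
    rw [← normalizer_U' R hG, Subgroup.mem_normalizer_iff]
    intro y
    obtain ⟨x, rfl⟩ := β.surjective y
    have h1 := hSfix (g * x * g⁻¹)
    rw [hg, conj_mem_cj, mem_cj, map_mul, map_mul, map_inv] at h1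
    have e1 : g⁻¹ * (β g * β x * (β g)⁻¹) * g = g⁻¹ * β g * β x * (g⁻¹ * β g)⁻¹ := by group
    rw [e1] at h1
    rw [h1]
    exact hU x
  obtain ⟨v, m, b, hv, hβv, hb, hgv, hm⟩ := fixed_chamber R hG hU hUN hgB
  obtain ⟨t, ht, hmt⟩ := exists_fixed_rep R hβ hT hm
  set a : Y := v * (m * t) with ha
  have hβa : β a = a := by rw [ha, map_mul, hβv, hmt]
  have hga : cj g U = cj a U := by
    have e1 : g = a * (t⁻¹ * b) := by rw [hgv, ha]; group
    have h1 : t⁻¹ * b ∈ Subgroup.normalizer (U : Set Y) := by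
      rw [normalizer_U' R hG]
      exact mul_mem (RGD.T_le_B (inv_mem ht)) hb
    rw [e1, cj_mul, mem_normalizer_iff_cj.1 h1]
  have hEa : E.map (MulAut.conj a⁻¹).toMonoidHom ≤ C := by
    rintro _ ⟨x, hx, rfl⟩
    have h1 : x ∈ cj a U := by rw [← hga, ← hg]; exact hES hx
    rw [mem_cj] at h1
    have e1 : (MulAut.conj a⁻¹).toMonoidHom x = a⁻¹ * x * a := by
      change MulAut.conj a⁻¹ x = _
      rw [MulAut.conj_apply, inv_inv]
    rw [e1]
    refine ⟨h1, ?_⟩
    change β (a⁻¹ * x * a) = a⁻¹ * x * a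
    rw [map_mul, map_mul, map_inv, hβa, show β x = x from hEf hx]
  have hcard : Nat.card E ≤ Nat.card C := by
    have hinj : Function.Injective (MulAut.conj a⁻¹).toMonoidHom := (MulAut.conj a⁻¹).injective
    rw [← Subgroup.card_map_of_injective (K := E) hinj]
    exact Subgroup.card_le_of_le hEa
  have hCE : C = E := Subgroup.eq_of_le_of_card_ge le_sup_right hcard
  calc Q ≤ E := le_sup_left
    _ = C := hCE.symm
    _ ≤ U := inf_le_left

/-- **`O_p(C_Y(β)) = 1`** -/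
theorem eq_bot_of_normal [Finite W] [Finite Y] [Fact p.Prime] (hG : GG cs h T X = ⊤) {β : MulAut Y} {j : ℕ}
    (hβ : β ^ p ^ j = 1) (hU : Fix β (RGD.Sup X (RGD.Pos cs h))) (hUN : Fix β (UN cs h X)) {Q : Subgroup Y}
    (hQ : IsPGroup p Q) (hQf : Q ≤ Fx β) (hQn : Fx β ≤ Subgroup.normalizer (Q : Set Y)) : Q = ⊥ := by
  have h1 := le_U_of_normal R hG hβ hU hUN hQ hQf hQn
  have h2 := le_U_of_normal (opp R) (by rw [GG_opp, hG]) hβ (by rw [U_opp]; exact hUN) (by rw [UN_opp]; exact hU)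
    hQ hQf hQn
  rw [U_opp] at h2
  rw [eq_bot_iff, ← U_inf_UN R]
  exact le_inf h1 h2

/-- `C_U(β) ≠ 1` -/
theorem exists_fixed_U [Finite W] [Finite Y] [Fact p.Prime] [Nonempty I] {β : MulAut Y} {j : ℕ}
    (hβ : β ^ p ^ j = 1) (hU : Fix β (RGD.Sup X (RGD.Pos cs h))) : ∃ x : Y, x ≠ 1 ∧ β x = x := by
  classical
  set U := RGD.Sup X (RGD.Pos cs h) with hUdef
  have : Fintype {x : Y // x ∈ U} := Fintype.ofFinite _
  let f : Equiv.Perm {x : Y // x ∈ U} := (MulAut.toPerm Y β).subtypePerm hU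
  have hf : f ^ p ^ j = 1 := by
    refine (Equiv.Perm.subtypePerm_pow _ _ _).trans ?_
    ext x
    have : (MulAut.toPerm Y β) ^ p ^ j = 1 := by rw [← map_pow, hβ, map_one]
    simp [this]
  have hcard : p ∣ Fintype.card {x : Y // x ∈ U} := by
    rw [← Nat.card_eq_fintype_card]
    obtain ⟨k, hk⟩ := IsPGroup.iff_card.1 (show IsPGroup p U from R.isPGroup_Upos)
    rw [hk]
    refine dvd_pow_self p fun h0 => ?_
    rw [h0, pow_zero] at hk
    obtain ⟨i⟩ := ‹Nonempty I›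
    obtain ⟨u, hu, hu1⟩ := exists_ne_one R i
    have h1 : u ∈ U := RGD.le_Sup (S := RGD.Pos cs h) ⟨isRoot_sr cs h i, sr_nonneg i⟩ hu
    rw [Subgroup.card_eq_one] at hk
    rw [hk] at h1
    exact hu1 (Subgroup.mem_bot.1 h1)
  obtain ⟨⟨x, hx⟩, hx', hx1⟩ := Equiv.Perm.exists_fixed_point_of_prime' hcard hf (a := ⟨1, one_mem U⟩)
    (Subtype.ext (map_one β))
  exact ⟨x, fun h0 => hx1 (Subtype.ext h0), congrArg Subtype.val hx'⟩

end

end Cfsg.Agent.H338.Out
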