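import Mathlib
import Cfsg.Agent.KFacts.RgdRigid

/-!
# Frame automorphisms of `p`-power order: `O_p(C_Y(β)) = 1` (helper338, TEAM S3046)

`Y` a finite group with a root group datum of characteristic `p`, `β` an automorphism of `p`-power order which fixes
`U` and `U⁻`.

* `fixed_chamber` : a `β`-fixed chamber is `v m B` with `v ∈ C_U(β)` and `β m ∈ m T`;
* `exists_fixed_rep` : `m` can be chosen in `C(β)`;
* `le_U_of_normal`, `eq_bot_of_normal` : `O_p(C_Y(β)) = 1`.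
-/

set_option autoImplicit false
set_option linter.unusedSectionVars false

namespace Cfsg.Agent.H338.Out

open CoxeterSystem Cfsg.Agent.ChevalleyStructure.CoxeterGeom Cfsg.Agent.Tits.Roots Cfsg.Agent.Tits.Core
  Cfsg.Agent.Tits.Exchange Cfsg.Agent.Nodes.Reps Cfsg.Agent.Nodes.BNOf Cfsg.Agent.Nodes.StabComb
  Cfsg.Agent.Nodes.Bruhat Cfsg.Agent.Nodes.OppDec Cfsg.Agent.Nodes.LeviDec Cfsg.Agent.Nodes.NormalForm
  Cfsg.Agent.KFacts.RgdOpp Cfsg.Agent.KFacts.RgdAut Cfsg.Agent.KFacts.RgdDiag Cfsg.Agent.KFacts.RgdRigid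
open scoped commutatorElement

variable {I W Y : Type*} [Fintype I] [DecidableEq I] [Group W] [Group Y] {M : CoxeterMatrix I}
  {cs : CoxeterSystem M W} {A : I → I → ℤ} {h : IsCartan M A} {p : ℕ} {T : Subgroup Y} {n : I → Y}
  {X : (I → ℤ) → Subgroup Y}

section

variable (R : RGD cs h p T n X)

include R

theorem conj_T_UN [Finite W] {t x : Y} (ht : t ∈ T) (hx : x ∈ UN cs h X) : t * x * t⁻¹ ∈ UN cs h X := by
  have h1 := (opp R).T_le_normalizer_U ht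
  rw [U_opp] at h1
  exact (Subgroup.mem_normalizer_iff.1 h1 x).1 hx

/-- A chamber fixed by a frame automorphism. -/
theorem fixed_chamber [Finite W] (hG : GG cs h T X = ⊤) {β : MulAut Y} (hU : Fix β (RGD.Sup X (RGD.Pos cs h)))
    (hUN : Fix β (UN cs h X)) {k : Y} (hk : k⁻¹ * β k ∈ RGD.B cs h T X) :
    ∃ v m b, v ∈ RGD.Sup X (RGD.Pos cs h) ∧ β v = v ∧ b ∈ RGD.B cs h T X ∧ k = v * m * b ∧ m⁻¹ * β m ∈ T := by
  obtain ⟨σ, D⟩ := exists_diag R hG hU hUN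
  have hσ := D.matrix R
  have hB := fix_B R hG hU
  obtain ⟨w, hw⟩ := (mem_GG R).1 (show k⁻¹ ∈ GG cs h T X by rw [hG]; exact Subgroup.mem_top _)
  obtain ⟨u, hu, k', hk', v', hv', e⟩ := exists_normal_form R hw
  have hNP : NW cs h w ⊆ RGD.Pos cs h := fun x hx => ⟨hx.1, hx.2.1⟩
  have hv'U : v' ∈ RGD.Sup X (RGD.Pos cs h) := RGD.Sup_mono hNP hv'
  have hv'N : k' * v' * k'⁻¹ ∈ UN cs h X :=
    conj_mem_Sup R hk' (S' := Neg cs h) (fun x hx => hx.1) (fun x hx => ⟨hx.1.act _, hx.2.2⟩) hv'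
  -- `k = v m b`
  set m := k'⁻¹ with hm
  set v := v'⁻¹ with hv
  have hkm : k = v * m * u⁻¹ := by
    rw [← inv_inv k, e, hm, hv]; group
  have hrm : Rp cs R.nsys w⁻¹ m := hk'.inv
  have hrb : Rp cs R.nsys (hat cs σ hσ w⁻¹) (β m) := D.rp' (R := R) hσ hrm
  have hvU : v ∈ RGD.Sup X (RGD.Pos cs h) := inv_mem hv'U
  have hvN : m⁻¹ * v * m ∈ UN cs h X := by
    have : m⁻¹ * v * m = (k' * v' * k'⁻¹)⁻¹ := by rw [hm, hv]; group
    rw [this]
    exact inv_mem hv'N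
  have hc1 : Cell R.nsys cs h X w⁻¹ (β k) := by
    refine ⟨v, RGD.U_le_B hvU, m, hrm, u⁻¹ * (k⁻¹ * β k), mul_mem (RGD.U_le_B (inv_mem hu)) hk, ?_⟩
    conv_lhs => rw [← mul_inv_cancel_left k (β k)]
    conv_rhs => rw [← mul_assoc, ← hkm]
  have hc2 : Cell R.nsys cs h X (hat cs σ hσ w⁻¹) (β k) := by
    refine ⟨β v, (hB v).2 (RGD.U_le_B hvU), β m, hrb, β u⁻¹, (hB _).2 (RGD.U_le_B (inv_mem hu)), ?_⟩
    rw [hkm, map_mul, map_mul]
  have hww : hat cs σ hσ w⁻¹ = w⁻¹ := hc2.unique R hc1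
  rw [hww] at hrb
  have ht : m⁻¹ * β m ∈ T := by
    have := hrm.inv.mul hrb
    rw [inv_mul_cancel] at this
    exact this.mem_of_one
  refine ⟨v, m, u⁻¹, hvU, ?_, RGD.U_le_B (inv_mem hu), hkm, ht⟩
  -- `x = (β v)⁻¹ v`
  have h1 : m⁻¹ * β v * m ∈ UN cs h X := by
    have h2 : β (m⁻¹ * v * m) ∈ UN cs h X := (hUN _).2 hvN
    rw [map_mul, map_mul, map_inv] at h2
    have h3 := conj_T_UN R ht h2
    have e3 : m⁻¹ * β m * ((β m)⁻¹ * β v * β m) * (m⁻¹ * β m)⁻¹ = m⁻¹ * β v * m := by group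
    rwa [e3] at h3
  have h4 : m⁻¹ * ((β v)⁻¹ * v) * m ∈ UN cs h X := by
    have e4 : m⁻¹ * ((β v)⁻¹ * v) * m = (m⁻¹ * β v * m)⁻¹ * (m⁻¹ * v * m) := by group
    rw [e4]
    exact mul_mem (inv_mem h1) hvN
  have h5 : m⁻¹ * ((β v)⁻¹ * v) * m ∈ RGD.B cs h T X := by
    have e5 : m⁻¹ * ((β v)⁻¹ * v) * m = (m⁻¹ * β m) * β u⁻¹ * (k⁻¹ * β k)⁻¹ * u := by
      have e6 : β k = β v * β m * β u⁻¹ := by rw [hkm, map_mul, map_mul]
      have e7 : (k⁻¹ * β k)⁻¹ = (β k)⁻¹ * k := by group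
      rw [e7, e6, hkm]
      group
    rw [e5]
    exact mul_mem (mul_mem (mul_mem (RGD.T_le_B ht) ((hB _).2 (RGD.U_le_B (inv_mem hu)))) (inv_mem hk))
      (RGD.U_le_B hu)
  have h6 := eq_one_of_mem_UN_of_mem_B R h4 h5
  have h7 : (β v)⁻¹ * v = 1 := by
    have : (β v)⁻¹ * v = m * (m⁻¹ * ((β v)⁻¹ * v) * m) * m⁻¹ := by group
    rw [this, h6]; group
  exact inv_mul_eq_one.1 h7

/-- The representative can be chosen fixed by `β`. -/
theorem exists_fixed_rep [Finite Y] [Fact p.Prime] {β : MulAut Y} {j : ℕ} (hβ : β ^ p ^ j = 1)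
    (hT : Fix β T) {m : Y} (hm : m⁻¹ * β m ∈ T) : ∃ t ∈ T, β (m * t) = m * t := by
  classical
  have hst : ∀ x : Y, m⁻¹ * (MulAut.toPerm Y β) x ∈ T ↔ m⁻¹ * x ∈ T := by
    intro x
    have e1 : m⁻¹ * (MulAut.toPerm Y β) x = (m⁻¹ * β m) * β (m⁻¹ * x) := by
      rw [map_mul, map_inv]
      change m⁻¹ * β x = _
      group
    rw [e1]
    constructor
    · intro h1
      exact (hT _).1 ((Subgroup.mul_mem_cancel_left T hm).1 h1)
    · intro h1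
      exact mul_mem hm ((hT _).2 h1)
  have : Fintype {x : Y // m⁻¹ * x ∈ T} := Fintype.ofFinite _
  let f : Equiv.Perm {x : Y // m⁻¹ * x ∈ T} := (MulAut.toPerm Y β).subtypePerm hst
  have hf : f ^ p ^ j = 1 := by
    rw [Equiv.Perm.subtypePerm_pow]
    ext x
    have : (MulAut.toPerm Y β) ^ p ^ j = 1 := by rw [← map_pow, hβ, map_one]
    simp [this]
  have hcard : ¬ p ∣ Fintype.card {x : Y // m⁻¹ * x ∈ T} := by
    have e1 : Nat.card {x : Y // m⁻¹ * x ∈ T} = Nat.card T :=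
      Nat.card_congr ((Equiv.mulLeft m⁻¹).subtypeEquiv fun x => Iff.rfl)
    rw [← Nat.card_eq_fintype_card, e1]
    intro hd
    have := Nat.Coprime.eq_one_of_dvd (R.tcop.symm) hd
    exact (Fact.out : p.Prime).one_lt.ne' this
  obtain ⟨⟨x, hx⟩, hx'⟩ := Equiv.Perm.exists_fixed_point_of_prime hcard hf
  refine ⟨m⁻¹ * x, hx, ?_⟩
  rw [mul_inv_cancel_left]
  exact congrArg Subtype.val hx'

end

end Cfsg.Agent.H338.Out
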